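import Mathlib
import Cfsg.Prelude.Def_Classical
import Cfsg.Prelude.Def_KGroupFacts
import Cfsg.Agent.Lib.Helper16.SpinG2
import Cfsg.Agent.Lib.Lead.SPN.Defs
import Cfsg.Agent.Lib.Lead.SPN.Defs2
import Cfsg.Agent.Lib.helper17.STM.Defs
import Cfsg.Agent.Lib.helper17.STM.Defs2
import Cfsg.Agent.Lib.helper17.STM.Defs3
import Cfsg.Agent.Lib.Helper12.OMN.Defs

/-!
# Project SPM2 (designer lead): the spin group `Spin⁻_{2l}(F)` by the Clifford algebra — companion of helper17's STM for S2099 (10u).  DEFINITIONS.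

Port of the lead's SPN (plus type) and of helper3's SPB (odd dimension) to the form `Σ_i v (inl i) * v (inr i) + z₁² + A z₁ z₂ + B z₂²` (`Cfsg.quadFormMinus m F A B`, `m = l - 1`)
and helper17's `SysM`.

* `ClM m F A B = CliffordAlgebra (qfMinus m F A B)` (`qfMinus` of `Helper16.SpinG2`); generators `gamM a = ι (e_a)` (`a : Fin m ⊕ Fin m`; the CAR of SPN) and, for `u` in the quadratic
  extension `Kq F A B` (the anisotropic plane), `gw u = ι (u.re z₁ + u.im z₂)`: `gw u * gw u = nm u`, `gw u * gw v + gw v * gw u = pq u v`, `gw u` anticommutes with every `gamM a`.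
* `g0 = gw 1` (`g0 * g0 = 1`): it plays the role of `γ_0` of SPB.  `ik : Kq F A B →ₐ[F] ClM m F A B`, `ω ↦ gw ω * g0`: the even Clifford algebra of the plane is a copy of `Kq`.  THE CALCULUS:
  `gw u = ik u * g0`, `g0 * ik u = ik (star u) * g0`, `gamM a * ik u = ik u * gamM a`, `gw t * gw u = ik (t * star u)`.  So with `YYm a = g0 * gamM a` (the `YY a` of SPB):
  `YM a u := gw u * gamM a = ik u * YYm a` and `YYm a * ik u = ik (star u) * YYm a`: the type `B` calculus of SPB with scalars in `Kq` that get CONJUGATED when they cross a `YYm`.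
* `phiM : Cl m F →ₐ[F] ClM m F A B` induced by the inclusion of the hyperbolic space; the LONG root elements `XClm a b t = phiM (XC a b t)`; the SHORT root elements `XCsm a u = 1 + gw u * gamM a`
  (its vector action `v ↦ g v g⁻¹` is helper17's Eichler matrix `TmS a u`).
* `CovM m F A B G`: a group with a generating `SysM` and a homomorphism to `Ω⁻(F)` sending `x a b t ↦ TmL a b t`, `xs a u ↦ TmS a u`; `zel = hs (inl 0) (-1)`.
-/

set_option autoImplicit false

namespace Cfsg.Agent.Lib.Lead.SPM2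

open Cfsg.Agent.Lib.helper15.St2 Cfsg.Agent.Lib.helper3.STC Cfsg.Agent.Lib.Lead.STD Cfsg.Agent.Lib.helper17.STM
  Cfsg.Agent.Lib.Lead.SPN Cfsg.Agent.Lib.Helper16

universe u v w

/-! ## the Clifford algebra -/

section Cliff

variable (m : ℕ) (F : Type u) [Field F] (A B : F)

/-- the Clifford algebra of the minus type form -/
abbrev ClM : Type u := CliffordAlgebra (qfMinus m F A B)

/-- the inclusion of the hyperbolic space (extension by `0` at the two coordinates of the anisotropic plane) -/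
def inclM : (Fin m ⊕ Fin m → F) →ₗ[F] ((Fin m ⊕ Fin m) ⊕ Fin 2 → F) where
  toFun v := Sum.elim v (fun _ => 0)
  map_add' v w := by
    funext k
    rcases k with k | k <;> simp
  map_smul' c v := by
    funext k
    rcases k with k | k <;> simp

variable {m F}

theorem inclM_inl (v : Fin m ⊕ Fin m → F) (a : Fin m ⊕ Fin m) : inclM m F v (Sum.inl a) = v a := rfl

theorem inclM_inr (v : Fin m ⊕ Fin m → F) (k : Fin 2) : inclM m F v (Sum.inr k) = 0 := rfl

theorem inclM_single (a : Fin m ⊕ Fin m) : inclM m F (Pi.single a 1) = Pi.single (Sum.inl a) 1 := by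
  funext k
  rcases k with k | k
  · rw [inclM_inl, Pi.single_apply, Pi.single_apply]
    by_cases h : k = a
    · rw [if_pos h, if_pos (by rw [h])]
    · rw [if_neg h, if_neg (by intro e; exact h (Sum.inl_injective e))]
  · rw [inclM_inr, Pi.single_apply, if_neg (by simp)]

theorem qfMinus_inclM (v : Fin m ⊕ Fin m → F) : qfMinus m F A B (inclM m F v) = qfPlus m F v := by
  rw [qfMinus_coe, qfPlus_coe]
  unfold Cfsg.quadFormMinus Cfsg.quadFormPlus
  simp only [inclM_inl, inclM_inr]
  ring

variable (m F)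

/-- the inclusion as an isometry -/
def embM : qfPlus m F →qᵢ qfMinus m F A B :=
  { inclM m F with map_app' := fun v => qfMinus_inclM A B v }

/-- the induced homomorphism of Clifford algebras -/
noncomputable def phiM : Cl m F →ₐ[F] ClM m F A B := CliffordAlgebra.map (embM m F A B)

variable {m F A B}

/-- the generators `γ_a = ι(e_a)` of `ClM` -/
noncomputable def gamM (a : Fin m ⊕ Fin m) : ClM m F A B := CliffordAlgebra.ι (qfMinus m F A B) (Pi.single (Sum.inl a) 1)

theorem phiM_gam (a : Fin m ⊕ Fin m) : phiM m F A B (gam a) = gamM a := by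
  unfold phiM gam gamM
  rw [CliffordAlgebra.map_apply_ι]
  congr 1
  exact inclM_single a

theorem gamM_sq (a : Fin m ⊕ Fin m) : gamM (A := A) (B := B) a * gamM a = 0 := by
  rw [← phiM_gam, ← map_mul, gam_sq, map_zero]

theorem gamM_car (a b : Fin m ⊕ Fin m) :
    gamM (A := A) (B := B) a * gamM b + gamM b * gamM a = if a = ng b then 1 else 0 := by
  rw [← phiM_gam, ← phiM_gam, ← map_mul, ← map_mul, ← map_add, gam_car]
  split_ifs
  · rw [map_one]
  · rw [map_zero]

theorem gamM_anti {a b : Fin m ⊕ Fin m} (h : a ≠ ng b) : gamM (A := A) (B := B) a * gamM b = -(gamM b * gamM a) := by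
  have := gamM_car (A := A) (B := B) a b
  rw [if_neg h] at this
  exact eq_neg_of_add_eq_zero_left this

/-- the vector `u.re z₁ + u.im z₂` of the anisotropic plane -/
def wvec (u : Kq F A B) : (Fin m ⊕ Fin m) ⊕ Fin 2 → F := Pi.single (Sum.inr 0) u.re + Pi.single (Sum.inr 1) u.im

theorem wvec_inl (u : Kq F A B) (a : Fin m ⊕ Fin m) : wvec (m := m) u (Sum.inl a) = 0 := by
  unfold wvec
  rw [Pi.add_apply, Pi.single_apply, Pi.single_apply, if_neg (by simp), if_neg (by simp), add_zero]

theorem wvec_z1 (u : Kq F A B) : wvec (m := m) u (Sum.inr 0) = u.re := by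
  unfold wvec
  rw [Pi.add_apply, Pi.single_eq_same, Pi.single_apply, if_neg (by simp), add_zero]

theorem wvec_z2 (u : Kq F A B) : wvec (m := m) u (Sum.inr 1) = u.im := by
  unfold wvec
  rw [Pi.add_apply, Pi.single_eq_same, Pi.single_apply, if_neg (by simp), zero_add]

theorem wvec_add (u v : Kq F A B) : wvec (m := m) (u + v) = wvec u + wvec v := by
  funext k
  rcases k with k | k
  · rw [Pi.add_apply, wvec_inl, wvec_inl, wvec_inl, add_zero]
  · fin_cases k
    · show wvec (u + v) (Sum.inr 0) = wvec u (Sum.inr 0) + wvec v (Sum.inr 0)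
      rw [wvec_z1, wvec_z1, wvec_z1]; rfl
    · show wvec (u + v) (Sum.inr 1) = wvec u (Sum.inr 1) + wvec v (Sum.inr 1)
      rw [wvec_z2, wvec_z2, wvec_z2]; rfl

theorem wvec_smul (t : F) (u : Kq F A B) : wvec (m := m) (t • u) = t • wvec u := by
  funext k
  rcases k with k | k
  · rw [Pi.smul_apply, wvec_inl, wvec_inl, smul_zero]
  · fin_cases k
    · show wvec (t • u) (Sum.inr 0) = t • wvec u (Sum.inr 0)
      rw [wvec_z1, wvec_z1]; rfl
    · show wvec (t • u) (Sum.inr 1) = t • wvec u (Sum.inr 1)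
      rw [wvec_z2, wvec_z2]; rfl

theorem qfMinus_wvec (u : Kq F A B) : qfMinus m F A B (wvec u) = nm u := by
  rw [qfMinus_coe, nm_def]
  unfold Cfsg.quadFormMinus
  rw [wvec_z1, wvec_z2]
  have : ∑ i : Fin m, wvec (m := m) u (Sum.inl (Sum.inl i)) * wvec u (Sum.inl (Sum.inr i)) = 0 := by
    apply Finset.sum_eq_zero
    intro i _
    rw [wvec_inl, zero_mul]
  rw [this]
  ring

theorem polar_wvec (u v : Kq F A B) : QuadraticMap.polar (qfMinus m F A B) (wvec u) (wvec v) = pq u v := by
  rw [qfMinus_coe, polar_minus', pq_def, wvec_z1, wvec_z2, wvec_z1, wvec_z2]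
  have : ∑ i : Fin m, (wvec (m := m) u (Sum.inl (Sum.inl i)) * wvec v (Sum.inl (Sum.inr i)) +
      wvec v (Sum.inl (Sum.inl i)) * wvec u (Sum.inl (Sum.inr i))) = 0 := by
    apply Finset.sum_eq_zero
    intro i _
    simp only [wvec_inl, zero_mul, mul_zero, add_zero]
  rw [this]
  ring

theorem polar_wvec_single (u : Kq F A B) (a : Fin m ⊕ Fin m) :
    QuadraticMap.polar (qfMinus m F A B) (wvec u) (Pi.single (Sum.inl a) 1) = 0 := by
  rw [qfMinus_coe, polar_minus']
  have h0 : (Pi.single (Sum.inl a) (1 : F) : (Fin m ⊕ Fin m) ⊕ Fin 2 → F) (Sum.inr 0) = 0 := by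
    rw [Pi.single_apply, if_neg (by simp)]
  have h1 : (Pi.single (Sum.inl a) (1 : F) : (Fin m ⊕ Fin m) ⊕ Fin 2 → F) (Sum.inr 1) = 0 := by
    rw [Pi.single_apply, if_neg (by simp)]
  rw [h0, h1]
  have : ∑ i : Fin m, (wvec (m := m) u (Sum.inl (Sum.inl i)) * (Pi.single (Sum.inl a) (1 : F) : (Fin m ⊕ Fin m) ⊕ Fin 2 → F) (Sum.inl (Sum.inr i)) +
      (Pi.single (Sum.inl a) (1 : F) : (Fin m ⊕ Fin m) ⊕ Fin 2 → F) (Sum.inl (Sum.inl i)) * wvec u (Sum.inl (Sum.inr i))) = 0 := by
    apply Finset.sum_eq_zero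
    intro i _
    simp only [wvec_inl, zero_mul, mul_zero, add_zero]
  rw [this]
  ring

/-- the generator `ι (u.re z₁ + u.im z₂)` attached to an element of the quadratic extension -/
noncomputable def gw (u : Kq F A B) : ClM m F A B := CliffordAlgebra.ι (qfMinus m F A B) (wvec u)

theorem gw_add (u v : Kq F A B) : gw (m := m) (u + v) = gw u + gw v := by
  unfold gw
  rw [wvec_add, map_add]

theorem gw_smul (t : F) (u : Kq F A B) : gw (m := m) (t • u) = t • gw u := by
  unfold gw
  rw [wvec_smul, map_smul]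

theorem gw_zero : gw (m := m) (0 : Kq F A B) = 0 := by
  have := gw_smul (m := m) (0 : F) (0 : Kq F A B)
  rw [zero_smul, zero_smul] at this
  exact this

theorem gw_neg (u : Kq F A B) : gw (m := m) (-u) = -gw u := by
  have h := gw_add (m := m) u (-u)
  rw [add_neg_cancel, gw_zero] at h
  exact (neg_eq_of_add_eq_zero_right h.symm).symm

theorem gw_sq (u : Kq F A B) : gw (m := m) u * gw u = algebraMap F (ClM m F A B) (nm u) := by
  unfold gw
  rw [CliffordAlgebra.ι_sq_scalar, qfMinus_wvec]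

theorem gw_car (u v : Kq F A B) : gw (m := m) u * gw v + gw v * gw u = algebraMap F (ClM m F A B) (pq u v) := by
  unfold gw
  rw [CliffordAlgebra.ι_mul_ι_add_swap, polar_wvec]

/-- `gw u` anticommutes with every `γ_a` -/
theorem gw_anti (u : Kq F A B) (a : Fin m ⊕ Fin m) : gw (m := m) u * gamM a = -(gamM a * gw u) := by
  have h := CliffordAlgebra.ι_mul_ι_add_swap (Q := qfMinus m F A B) (wvec u) (Pi.single (Sum.inl a) 1)
  rw [polar_wvec_single, map_zero] at h
  exact eq_neg_of_add_eq_zero_left h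

theorem gamM_gw (u : Kq F A B) (a : Fin m ⊕ Fin m) : gamM a * gw (m := m) u = -(gw u * gamM a) := by
  rw [gw_anti, neg_neg]

/-- `g0 = ι(z₁)`, the analogue of `γ_0` of the odd dimensional case -/
noncomputable def g0 : ClM m F A B := gw 1

theorem g0_sq : g0 (m := m) (A := A) (B := B) * g0 = 1 := by
  unfold g0
  rw [gw_sq, nm_one, map_one]

/-- the element `ω` of the quadratic extension -/
abbrev om : Kq F A B := QuadraticAlgebra.omega

theorem nm_om : nm (om : Kq F A B) = B := by
  rw [nm_def]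
  simp [om]

theorem pq_one_om : pq (1 : Kq F A B) om = A := by
  rw [pq_def]
  simp [om, QuadraticAlgebra.re_one, QuadraticAlgebra.im_one]

/-- `Ω = gw ω * g0` satisfies the equation of `ω` -/
theorem Om_sq : (gw (m := m) (om : Kq F A B) * g0) * (gw om * g0) = (-B) • (1 : ClM m F A B) + A • (gw om * g0) := by
  have h1 : g0 (m := m) (A := A) (B := B) * gw om = algebraMap F (ClM m F A B) A - gw om * g0 := by
    have h := gw_car (m := m) (1 : Kq F A B) om
    rw [pq_one_om] at h
    unfold g0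
    exact eq_sub_of_add_eq h
  calc (gw (m := m) (om : Kq F A B) * g0) * (gw om * g0)
      = gw om * (g0 * gw om) * g0 := by noncomm_ring
    _ = gw om * (algebraMap F (ClM m F A B) A - gw om * g0) * g0 := by rw [h1]
    _ = A • (gw om * g0) - (gw om * gw om) * (g0 * g0) := by
        rw [Algebra.algebraMap_eq_smul_one]
        noncomm_ring
    _ = (-B) • (1 : ClM m F A B) + A • (gw om * g0) := by
        rw [gw_sq, g0_sq, nm_om, Algebra.algebraMap_eq_smul_one]
        simp only [mul_one, neg_smul]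
        abel

/-- the even Clifford algebra of the anisotropic plane is a copy of the quadratic extension -/
noncomputable def ik : Kq F A B →ₐ[F] ClM m F A B :=
  QuadraticAlgebra.lift ⟨gw om * g0, Om_sq⟩

theorem ik_apply (u : Kq F A B) : ik (m := m) u = u.re • (1 : ClM m F A B) + u.im • (gw om * g0) := rfl

theorem kq_eq (u : Kq F A B) : u = u.re • (1 : Kq F A B) + u.im • om := by
  apply QuadraticAlgebra.ext <;> simp [om, QuadraticAlgebra.re_one, QuadraticAlgebra.im_one]

/-- `gw u = ik u * g0` -/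
theorem gw_eq (u : Kq F A B) : gw (m := m) u = ik u * g0 := by
  rw [ik_apply, add_mul, smul_mul_assoc, one_mul, smul_mul_assoc, mul_assoc, g0_sq, mul_one]
  conv_lhs => rw [kq_eq u]
  rw [gw_add, gw_smul, gw_smul]
  rfl

/-- `g0 * ik u = ik (star u) * g0` -/
theorem g0_ik (u : Kq F A B) : g0 (m := m) * ik u = ik (star u) * g0 := by
  have h1 : g0 (m := m) (A := A) (B := B) * gw om = algebraMap F (ClM m F A B) A - gw om * g0 := by
    have h := gw_car (m := m) (1 : Kq F A B) om
    rw [pq_one_om] at h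
    unfold g0
    exact eq_sub_of_add_eq h
  rw [ik_apply, ik_apply]
  have e1 : (star u).re = u.re + A * u.im := by simp
  have e2 : (star u).im = -u.im := by simp
  rw [e1, e2, mul_add, mul_smul_comm, mul_one, mul_smul_comm, ← mul_assoc, h1, Algebra.algebraMap_eq_smul_one]
  rw [add_mul, smul_mul_assoc, one_mul, smul_mul_assoc, mul_assoc, g0_sq, mul_one, sub_mul, smul_mul_assoc, one_mul, mul_assoc, g0_sq, mul_one]
  rw [add_smul, neg_smul, smul_sub, mul_smul, smul_comm A u.im]
  abel

/-- `ik u` commutes with every `γ_a` -/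
theorem gamM_ik (a : Fin m ⊕ Fin m) (u : Kq F A B) : gamM a * ik (m := m) u = ik u * gamM a := by
  rw [ik_apply, mul_add, add_mul, mul_smul_comm, smul_mul_assoc, mul_one, one_mul, mul_smul_comm, smul_mul_assoc]
  congr 2
  unfold g0
  rw [← mul_assoc, gamM_gw, neg_mul, mul_assoc, gamM_gw, mul_neg, neg_neg, mul_assoc]

/-- `gw t * gw u = ik (t * star u)` -/
theorem gw_mul_gw (t u : Kq F A B) : gw (m := m) t * gw u = ik (t * star u) := by
  rw [gw_eq t, gw_eq u, mul_assoc, ← mul_assoc g0, g0_ik, mul_assoc, g0_sq, mul_one, ← map_mul]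

theorem ik_algebraMap (t : F) : ik (m := m) (algebraMap F (Kq F A B) t) = algebraMap F (ClM m F A B) t :=
  (ik (m := m) (A := A) (B := B)).commutes t


/-- `g0` anticommutes with every `γ_a` -/
theorem g0_anti (a : Fin m ⊕ Fin m) : g0 (A := A) (B := B) * gamM a = -(gamM a * g0) := gw_anti 1 a

theorem gamM_g0 (a : Fin m ⊕ Fin m) : gamM (A := A) (B := B) a * g0 = -(g0 * gamM a) := gamM_gw 1 a

/-- `E_{ab} = γ_a γ_{-b}` in `ClM` -/
noncomputable def EM (a b : Fin m ⊕ Fin m) : ClM m F A B := gamM a * gamM (ng b)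

theorem phiM_EE (a b : Fin m ⊕ Fin m) : phiM m F A B (EE a b) = EM a b := by
  unfold EE EM
  rw [map_mul, phiM_gam, phiM_gam]

/-- `Y_a = g0 γ_a` (the `YY a` of SPB) -/
noncomputable def YYm (a : Fin m ⊕ Fin m) : ClM m F A B := g0 * gamM a

theorem YYm_sq (a : Fin m ⊕ Fin m) : YYm (A := A) (B := B) a * YYm a = 0 := by
  unfold YYm
  calc g0 (A := A) (B := B) * gamM a * (g0 * gamM a) = g0 * (gamM a * g0) * gamM a := by noncomm_ring
    _ = -(g0 * g0 * (gamM a * gamM a)) := by rw [gamM_g0]; noncomm_ring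
    _ = 0 := by rw [gamM_sq]; simp

/-- `YM a u = gw u * γ_a`: the nilpotent element of the short root element `xs a u` -/
noncomputable def YM (a : Fin m ⊕ Fin m) (u : Kq F A B) : ClM m F A B := gw u * gamM a

/-- `YM a u = ik u * Y_a` -/
theorem YM_eq (a : Fin m ⊕ Fin m) (u : Kq F A B) : YM (m := m) a u = ik u * YYm a := by
  unfold YM YYm
  rw [gw_eq, mul_assoc]

/-- `Y_a * ik u = ik (star u) * Y_a`: the scalars of `Kq` get conjugated when they cross a `Y_a` -/
theorem YYm_ik (a : Fin m ⊕ Fin m) (u : Kq F A B) : YYm (m := m) a * ik u = ik (star u) * YYm a := by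
  unfold YYm
  rw [mul_assoc, gamM_ik, ← mul_assoc, g0_ik, mul_assoc]

theorem YM_sq (a : Fin m ⊕ Fin m) (u : Kq F A B) : YM (m := m) a u * YM a u = 0 := by
  unfold YM
  calc gw (m := m) u * gamM a * (gw u * gamM a) = gw u * (gamM a * gw u) * gamM a := by noncomm_ring
    _ = -(gw u * gw u * (gamM a * gamM a)) := by rw [gamM_gw]; noncomm_ring
    _ = 0 := by rw [gamM_sq]; simp

theorem YM_add (a : Fin m ⊕ Fin m) (u v : Kq F A B) : YM (m := m) a (u + v) = YM a u + YM a v := by
  unfold YM
  rw [gw_add, add_mul]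

theorem YM_neg (a : Fin m ⊕ Fin m) (u : Kq F A B) : YM (m := m) a (-u) = -YM a u := by
  unfold YM
  rw [gw_neg, neg_mul]

theorem YM_zero (a : Fin m ⊕ Fin m) : YM (m := m) a (0 : Kq F A B) = 0 := by
  unfold YM
  rw [gw_zero, zero_mul]

/-- the idempotent `γ_a γ_{-a}` of `ClM` -/
noncomputable def ppM (a : Fin m ⊕ Fin m) : ClM m F A B := gamM a * gamM (ng a)

/-- the long root elements of the spin group: the images of those of SPN -/
noncomputable def XClm (a b : Fin m ⊕ Fin m) (t : F) : (ClM m F A B)ˣ := Units.map (phiM m F A B).toMonoidHom (XC a b t)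

theorem XClm_val {a b : Fin m ⊕ Fin m} (hab : a ≠ b) (hab' : a ≠ ng b) (t : F) :
    ((XClm a b t : (ClM m F A B)ˣ) : ClM m F A B) = 1 + t • EM a b := by
  unfold XClm
  rw [Units.coe_map]
  show phiM m F A B ((XC a b t : (Cl m F)ˣ) : Cl m F) = _
  rw [XC_val hab hab', map_add, map_one, map_smul, phiM_EE]

/-- the short root elements of the spin group: `1 + gw u * γ_a` -/
noncomputable def XCsm (a : Fin m ⊕ Fin m) (u : Kq F A B) : (ClM m F A B)ˣ where
  val := 1 + YM a u
  inv := 1 - YM a u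
  val_inv := by
    have h := YM_sq (m := m) a u
    calc (1 + YM (m := m) a u) * (1 - YM a u) = 1 - YM a u * YM a u := by noncomm_ring
      _ = 1 := by rw [h, sub_zero]
  inv_val := by
    have h := YM_sq (m := m) a u
    calc (1 - YM (m := m) a u) * (1 + YM a u) = 1 - YM a u * YM a u := by noncomm_ring
      _ = 1 := by rw [h, sub_zero]

theorem XCsm_val (a : Fin m ⊕ Fin m) (u : Kq F A B) : ((XCsm a u : (ClM m F A B)ˣ) : ClM m F A B) = 1 + YM a u := rfl

theorem XCsm_inv_val (a : Fin m ⊕ Fin m) (u : Kq F A B) : (((XCsm a u)⁻¹ : (ClM m F A B)ˣ) : ClM m F A B) = 1 - YM a u := rfl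

end Cliff

/-- the word `ws a t = xs a t * xs (ng a) (star t)⁻¹ * xs a t` in a family of short root elements (`SysM.ws S a t = wsOfM S.xs a t` by `rfl`) -/
def wsOfM {F : Type*} [Field F] {A B : F} [Fact (∀ r : F, r ^ 2 ≠ -B + A * r)] {ι : Type*} {G : Type*} [Group G]
    (xs : ι ⊕ ι → Kq F A B → G) (a : ι ⊕ ι) (t : Kq F A B) : G :=
  xs a t * xs (ng a) (star t)⁻¹ * xs a t

/-- the word `hs a t = ws a t * ws a (-1)` in a family of short root elements (`SysM.hs S a t = hsOfM S.xs a t` by `rfl`) -/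
def hsOfM {F : Type*} [Field F] {A B : F} [Fact (∀ r : F, r ^ 2 ≠ -B + A * r)] {ι : Type*} {G : Type*} [Group G]
    (xs : ι ⊕ ι → Kq F A B → G) (a : ι ⊕ ι) (t : Kq F A B) : G :=
  wsOfM xs a t * wsOfM xs a (-1)

theorem ws_eq_wsOfM {F : Type*} [Field F] {A B : F} [Fact (∀ r : F, r ^ 2 ≠ -B + A * r)] {ι : Type*} {G : Type*} [Group G]
    (S : SysM F A B ι G) (a : ι ⊕ ι) (t : Kq F A B) : S.ws a t = wsOfM S.xs a t := rfl

theorem hs_eq_hsOfM {F : Type*} [Field F] {A B : F} [Fact (∀ r : F, r ^ 2 ≠ -B + A * r)] {ι : Type*} {G : Type*} [Group G]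
    (S : SysM F A B ι G) (a : ι ⊕ ι) (t : Kq F A B) : S.hs a t = hsOfM S.xs a t := rfl

/-! ## covering data -/

open Cfsg.Agent.Lib.Helper12.OMN (omatM oglM omatM_mul omatM_one omatM_injective oglM_coe oglM_injective)

/-- A covering datum for `Ω⁻_{2m+2}(F)`: a group `G` with a generating Steinberg system of type `²D` and a homomorphism to `Ω⁻_{2m+2}(F)` which sends the long root element `x a b t` to the
element with matrix `TmL a b t` and the short root element `xs a u` to the element with matrix `TmS a u` (matrices through `omatM` of helper12's `Helper12.OMN.Defs`). -/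
structure CovM (m : ℕ) (F : Type u) [Field F] (A B : F) [Fact (∀ r : F, r ^ 2 ≠ -B + A * r)] (G : Type v) [Group G] where
  hl : 3 ≤ m
  S : SysM F A B (Fin m) G
  gen : S.XQ (fun _ _ => True) (fun _ => True) = ⊤
  π : G →* ↥(Cfsg.Omega F (Cfsg.quadFormMinus m F A B))
  hπ : ∀ a b : Fin m ⊕ Fin m, a ≠ b → a ≠ ng b → ∀ t : F, omatM (π (S.x a b t)) = TmL a b t
  hπs : ∀ (a : Fin m ⊕ Fin m) (u : Kq F A B), omatM (π (S.xs a u)) = TmS a u

namespace CovM

variable {m : ℕ} {F : Type u} [Field F] {A B : F} [Fact (∀ r : F, r ^ 2 ≠ -B + A * r)] {G : Type v} [Group G] (C : CovM m F A B G)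

/-- the index `0` -/
def i0 : Fin m := ⟨0, by have := C.hl; omega⟩

/-- the index `1` -/
def i1 : Fin m := ⟨1, by have := C.hl; omega⟩

/-- the spin element `hs_0(-1)` -/
def zel : G := C.S.hs (Sum.inl C.i0) (-1)

/-- the composite `G → Ω → PΩ` -/
def sig : G →* Cfsg.POmega F (Cfsg.quadFormMinus m F A B) :=
  (QuotientGroup.mk' (Subgroup.center ↥(Cfsg.Omega F (Cfsg.quadFormMinus m F A B)))).comp C.π

/-- the representation of a covering datum -/
def rep : C.S.Rep (Fin m) where
  e := Function.Embedding.refl (Fin m)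
  φ := oglM.comp C.π
  hφ := by
    intro a b hab hab' t
    have h1 : Em (Function.Embedding.refl (Fin m)) a = a := by cases a <;> rfl
    have h2 : Em (Function.Embedding.refl (Fin m)) b = b := by cases b <;> rfl
    rw [h1, h2]
    exact C.hπ a b hab hab' t
  hφs := by
    intro a u
    have h1 : Em (Function.Embedding.refl (Fin m)) a = a := by cases a <;> rfl
    rw [h1]
    exact C.hπs a u

theorem rep_M (g : G) : C.rep.M g = omatM (C.π g) := rfl

theorem rep_Em (a : Fin m ⊕ Fin m) : Em C.rep.e a = a := by cases a <;> rfl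

end CovM

/-! ## the interfaces to the companion projects (hypotheses of the rows that use them) -/

/-- the statement of the main theorem of helper17's STM (`SysM.Rep.injective`) at the group `H` -/
def StmInjAt (m : ℕ) (F : Type u) [Field F] (A B : F) [Fact (∀ r : F, r ^ 2 ≠ -B + A * r)] (H : Type v) [Group H] : Prop :=
  ∀ (S : SysM F A B (Fin m) H) (R : S.Rep (Fin m)), S.Spin → S.XQ (fun _ _ => True) (fun _ => True) = ⊤ → Function.Injective R.φ

/-- the statement of OMN (N-b): `Ω⁻_{2m+2}(F)` carries a generating system of type `²D` with the matrices `TmL`, `TmS` -/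
def OmnSys (m : ℕ) (F : Type u) [Field F] (A B : F) [Fact (∀ r : F, r ^ 2 ≠ -B + A * r)] : Prop :=
  ∃ S : SysM F A B (Fin m) ↥(Cfsg.Omega F (Cfsg.quadFormMinus m F A B)), S.XQ (fun _ _ => True) (fun _ => True) = ⊤ ∧
    (∀ a b : Fin m ⊕ Fin m, a ≠ b → a ≠ ng b → ∀ t : F, omatM (S.x a b t) = TmL a b t) ∧
    ∀ (a : Fin m ⊕ Fin m) (u : Kq F A B), omatM (S.xs a u) = TmS a u

/-- the statement of OMN (N-c): a central element of `Ω⁻_{2m+2}(F)` has matrix `1` or `-1` -/
def OmnCenter (m : ℕ) (F : Type u) [Field F] (A B : F) : Prop :=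
  ∀ z : ↥(Cfsg.Omega F (Cfsg.quadFormMinus m F A B)), z ∈ Subgroup.center ↥(Cfsg.Omega F (Cfsg.quadFormMinus m F A B)) →
    omatM z = 1 ∨ omatM z = -1

/-- the statement of CEM (`cem_split`) at the group `G`: every central extension of a group with a generating `SysM`, a representation and spin element `≠ 1` (unless `2 = 0`) splits -/
def CemSplitAt (m : ℕ) (F : Type u) [Field F] (A B : F) [Fact (∀ r : F, r ^ 2 ≠ -B + A * r)] (G : Type v) [Group G] : Prop :=
  ∀ (S : SysM F A B (Fin m) G) (_ : S.Rep (Fin m)), S.XQ (fun _ _ => True) (fun _ => True) = ⊤ → ∀ a : Fin m ⊕ Fin m,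
    (S.hs a (-1) = 1 → (2 : F) = 0) →
    ∀ (Γ : Type v) [Group Γ] (σ : Γ →* G), Function.Surjective σ → σ.ker ≤ Subgroup.center Γ →
      ∃ s : G →* Γ, ∀ g, σ (s g) = g

end Cfsg.Agent.Lib.Lead.SPM2
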